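import Mathlib.LinearAlgebra.PiTensorProduct.Basic
import Mathlib.RingTheory.Flat.EquationalCriterion
import Mathlib.LinearAlgebra.FreeModule.Basic
import Mathlib.Tactic

/-!
# Tensor powers of flat modules as colimits over finite free covers

* `K937.Laz.exists_kill_one`: for `M` flat, `F` free, `p : F → M`, `κ ∈ ker p`: a factorization `F → F' → M` killing `κ`.
* `K937.Laz.ker_map_le`: for `p : F → M` surjective, the kernel of `T^n F → T^n M` is spanned by the pure tensors with one
  entry in `ker p`.
* `K937.Laz.exists_kill_finset`: for `M` flat and `F` free, finitely many elements of `ker (T^n F → T^n M)` die in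
  `T^n F'` for a factorization `F → F' → M` with `F'` free.
* `K937.Laz.exists_free_sym_lift`: symmetric tensors of a flat module, together with finitely many relations, come from a
  free module.
-/

universe u
open scoped TensorProduct

namespace K937.Laz

variable {R : Type u} [CommRing R]

theorem exists_kill_one {M : Type u} [AddCommGroup M] [Module R M] [Module.Flat R M]
    {F : Type u} [AddCommGroup F] [Module R F] [Module.Free R F] (p : F →ₗ[R] M) (κ : F) (hκ : p κ = 0) :
    ∃ (F' : Type u) (_ : AddCommGroup F') (_ : Module R F') (_ : Module.Free R F')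
      (a : F →ₗ[R] F') (y : F' →ₗ[R] M), y ∘ₗ a = p ∧ a κ = 0 := by
  classical
  let b := Module.Free.chooseBasis R F
  let s : Finset (Module.Free.ChooseBasisIndex R F) := (b.repr κ).support
  have hsum : ∑ i : s, b.repr κ i • b i = κ := by
    rw [Finset.sum_coe_sort s (fun i => b.repr κ i • b i)]
    have := b.linearCombination_repr κ
    rw [Finsupp.linearCombination_apply, Finsupp.sum] at this
    exact this
  have h0 : ∑ i : s, b.repr κ i • p (b i) = 0 := by
    have := congrArg p hsum
    rw [hκ, map_sum] at this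
    simpa only [map_smul] using this
  obtain ⟨k, c, y, hy, hc⟩ := Module.Flat.isTrivialRelation_of_sum_smul_eq_zero h0
  let a : F →ₗ[R] (Fin k → R) × F :=
    b.constr R (fun i => if h : i ∈ s then (c ⟨i, h⟩, 0) else (0, b i))
  let y' : (Fin k → R) × F →ₗ[R] M := (Fintype.linearCombination R y).coprod p
  have ha : ∀ i, a (b i) = if h : i ∈ s then (c ⟨i, h⟩, 0) else (0, b i) := fun i => b.constr_basis R _ i
  refine ⟨(Fin k → R) × F, inferInstance, inferInstance, inferInstance, a, y', ?_, ?_⟩
  · apply b.ext
    intro i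
    rw [LinearMap.comp_apply, ha]
    split_ifs with h
    · simp only [y', LinearMap.coprod_apply, map_zero, add_zero, Fintype.linearCombination_apply]
      exact (hy ⟨i, h⟩).symm
    · simp only [y', LinearMap.coprod_apply, map_zero, zero_add]
  · rw [← hsum, map_sum]
    have h1 : ∀ i : s, a (b.repr κ i • b i) = (b.repr κ i • c i, 0) := by
      intro i
      rw [map_smul, ha, dif_pos i.2, Prod.smul_mk, smul_zero]
    rw [Finset.sum_congr rfl fun i _ => h1 i]
    apply Prod.ext
    · rw [Prod.fst_sum]
      funext j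
      simp only [Finset.sum_apply, Pi.smul_apply, smul_eq_mul]
      exact hc j
    · rw [Prod.snd_sum]
      simp

section Ker

variable {F M : Type u} [AddCommGroup F] [Module R F] [AddCommGroup M] [Module R M] (n : ℕ)

/-- The span of the pure tensors with one entry in the kernel. -/
noncomputable def kerSpan (p : F →ₗ[R] M) : Submodule R (⨂[R] _ : Fin n, F) :=
  Submodule.span R {x | ∃ f : Fin n → F, (∃ i, p (f i) = 0) ∧ x = PiTensorProduct.tprod R f}

variable {n}

theorem mkQ_update_eq [DecidableEq (Fin n)] (p : F →ₗ[R] M) (f : Fin n → F) (i : Fin n) (x : F) (h : p x = p (f i)) :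
    (kerSpan n p).mkQ (PiTensorProduct.tprod R (Function.update f i x)) =
      (kerSpan n p).mkQ (PiTensorProduct.tprod R f) := by
  have h1 : PiTensorProduct.tprod R (Function.update f i x) - PiTensorProduct.tprod R f =
      PiTensorProduct.tprod R (Function.update f i (x - f i)) := by
    rw [MultilinearMap.map_update_sub, Function.update_eq_self]
  rw [← sub_eq_zero, ← map_sub, h1, Submodule.mkQ_apply, Submodule.Quotient.mk_eq_zero]
  refine Submodule.subset_span ⟨_, ⟨i, ?_⟩, rfl⟩
  rw [Function.update_self, map_sub, h, sub_self]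

theorem mkQ_eq_of_comp_eq (p : F →ₗ[R] M) (f f' : Fin n → F) (h : ∀ i, p (f i) = p (f' i)) :
    (kerSpan n p).mkQ (PiTensorProduct.tprod R f) = (kerSpan n p).mkQ (PiTensorProduct.tprod R f') := by
  classical
  have key : ∀ t : Finset (Fin n), (kerSpan n p).mkQ (PiTensorProduct.tprod R (t.piecewise f' f)) =
      (kerSpan n p).mkQ (PiTensorProduct.tprod R f) := by
    intro t
    induction t using Finset.induction_on with
    | empty => rw [Finset.piecewise_empty]
    | insert j t hj ih =>
      rw [Finset.piecewise_insert, mkQ_update_eq, ih]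
      rw [Finset.piecewise_eq_of_notMem _ _ _ hj, h]
  have := key Finset.univ
  rw [Finset.piecewise_univ] at this
  exact this.symm

theorem ker_map_le (p : F →ₗ[R] M) (hp : Function.Surjective p) {x : ⨂[R] _ : Fin n, F}
    (hx : PiTensorProduct.map (fun _ : Fin n => p) x = 0) : x ∈ kerSpan n p := by
  classical
  let s : M → F := Function.surjInv hp
  have hs : ∀ m, p (s m) = m := Function.surjInv_eq hp
  let m : MultilinearMap R (fun _ : Fin n => M) ((⨂[R] _ : Fin n, F) ⧸ kerSpan n p) :=
    { toFun := fun v => (kerSpan n p).mkQ (PiTensorProduct.tprod R (fun i => s (v i)))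
      map_update_add' := by
        intro inst v i x y
        have hcomp : ∀ z, (fun j => s (Function.update v i z j)) = Function.update (fun j => s (v j)) i (s z) := by
          intro z
          funext j
          by_cases hj : j = i
          · subst hj; simp
          · simp [hj]
        rw [hcomp x, hcomp y, ← map_add, ← MultilinearMap.map_update_add]
        apply mkQ_eq_of_comp_eq
        intro j
        rw [hs]
        by_cases hj : j = i
        · subst hj; simp [hs]
        · simp [hj, hs]
      map_update_smul' := by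
        intro inst v i c x
        have hcomp : ∀ z, (fun j => s (Function.update v i z j)) = Function.update (fun j => s (v j)) i (s z) := by
          intro z
          funext j
          by_cases hj : j = i
          · subst hj; simp
          · simp [hj]
        rw [hcomp x, ← map_smul, ← MultilinearMap.map_update_smul]
        apply mkQ_eq_of_comp_eq
        intro j
        rw [hs]
        by_cases hj : j = i
        · subst hj; simp [hs]
        · simp [hj, hs] }
  have hcomp : PiTensorProduct.lift m ∘ₗ PiTensorProduct.map (fun _ : Fin n => p) = (kerSpan n p).mkQ := by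
    apply PiTensorProduct.ext
    ext f
    simp only [LinearMap.compMultilinearMap_apply, LinearMap.comp_apply, PiTensorProduct.map_tprod,
      PiTensorProduct.lift.tprod]
    apply mkQ_eq_of_comp_eq
    intro i
    rw [hs]
  have := LinearMap.congr_fun hcomp x
  rw [LinearMap.comp_apply, hx, map_zero] at this
  rw [← Submodule.Quotient.mk_eq_zero, ← Submodule.mkQ_apply, ← this]

end Ker

section Kill

variable {M : Type u} [AddCommGroup M] [Module R M] [Module.Flat R M] {n : ℕ}

/-- The statement that `x ∈ T^n F₀` dies in `T^n F₂` for a further free module `F₂` over `M`, after any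
first step `F₀ → F₁ → M`. -/
def Dies {F₀ : Type u} [AddCommGroup F₀] [Module R F₀] (p : F₀ →ₗ[R] M) (x : ⨂[R] _ : Fin n, F₀) : Prop :=
  ∀ (F₁ : Type u) [AddCommGroup F₁] [Module R F₁] [Module.Free R F₁] (b : F₀ →ₗ[R] F₁) (q : F₁ →ₗ[R] M),
    q ∘ₗ b = p → ∃ (F₂ : Type u) (_ : AddCommGroup F₂) (_ : Module R F₂) (_ : Module.Free R F₂)
      (a : F₁ →ₗ[R] F₂) (y : F₂ →ₗ[R] M), y ∘ₗ a = q ∧ PiTensorProduct.map (fun _ : Fin n => a ∘ₗ b) x = 0

theorem dies_of_mem_kerSpan {F₀ : Type u} [AddCommGroup F₀] [Module R F₀] (p : F₀ →ₗ[R] M)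
    {x : ⨂[R] _ : Fin n, F₀} (hx : x ∈ kerSpan n p) : Dies p x := by
  induction hx using Submodule.span_induction with
  | mem x hx =>
    obtain ⟨f, ⟨i, hi⟩, rfl⟩ := hx
    intro F₁ _ _ _ b q hq
    obtain ⟨F₂, i1, i2, i3, a, y, hy, ha⟩ := exists_kill_one q (b (f i)) (by
      rw [← LinearMap.comp_apply, hq, hi])
    refine ⟨F₂, i1, i2, i3, a, y, hy, ?_⟩
    rw [PiTensorProduct.map_tprod]
    apply MultilinearMap.map_coord_zero _ i
    exact ha
  | zero =>
    intro F₁ _ _ _ b q hq
    exact ⟨F₁, inferInstance, inferInstance, inferInstance, LinearMap.id, q, rfl, map_zero _⟩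
  | add x y _ _ hx hy =>
    intro F₁ _ _ _ b q hq
    obtain ⟨F₂, i1, i2, i3, a, q₂, hq₂, ha⟩ := hx F₁ b q hq
    obtain ⟨F₃, j1, j2, j3, a', q₃, hq₃, ha'⟩ := hy F₂ (a ∘ₗ b) q₂ (by
      rw [← LinearMap.comp_assoc, hq₂, hq])
    refine ⟨F₃, j1, j2, j3, a' ∘ₗ a, q₃, ?_, ?_⟩
    · rw [← LinearMap.comp_assoc, hq₃, hq₂]
    · rw [map_add]
      have e : (fun _ : Fin n => (a' ∘ₗ a) ∘ₗ b) = fun _ : Fin n => a' ∘ₗ (a ∘ₗ b) := rfl
      rw [e, ha', add_zero, PiTensorProduct.map_comp, LinearMap.comp_apply, ha, map_zero]
  | smul r x _ hx =>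
    intro F₁ _ _ _ b q hq
    obtain ⟨F₂, i1, i2, i3, a, q₂, hq₂, ha⟩ := hx F₁ b q hq
    exact ⟨F₂, i1, i2, i3, a, q₂, hq₂, by rw [map_smul, ha, smul_zero]⟩

theorem exists_kill_finset {ι : Type*} (t : Finset ι) {F : Type u} [AddCommGroup F] [Module R F]
    [Module.Free R F] (p : F →ₗ[R] M) (x : ι → ⨂[R] _ : Fin n, F) (hx : ∀ i ∈ t, x i ∈ kerSpan n p) :
    ∃ (F' : Type u) (_ : AddCommGroup F') (_ : Module R F') (_ : Module.Free R F')
      (a : F →ₗ[R] F') (y : F' →ₗ[R] M), y ∘ₗ a = p ∧
        ∀ i ∈ t, PiTensorProduct.map (fun _ : Fin n => a) (x i) = 0 := by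
  classical
  induction t using Finset.induction_on with
  | empty =>
    exact ⟨F, inferInstance, inferInstance, inferInstance, LinearMap.id, p, rfl, by simp⟩
  | insert j t hj ih =>
    obtain ⟨F₁, i1, i2, i3, b, q, hq, hb⟩ := ih (fun i hi => hx i (Finset.mem_insert_of_mem hi))
    obtain ⟨F₂, j1, j2, j3, a, y, hy, ha⟩ :=
      dies_of_mem_kerSpan p (hx j (Finset.mem_insert_self _ _)) F₁ b q hq
    refine ⟨F₂, j1, j2, j3, a ∘ₗ b, y, ?_, ?_⟩
    · rw [← LinearMap.comp_assoc, hy, hq]
    · intro i hi
      rcases Finset.mem_insert.mp hi with rfl | hi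
      · exact ha
      · rw [PiTensorProduct.map_comp, LinearMap.comp_apply, hb i hi, map_zero]

theorem map_reindex {F F' : Type u} [AddCommGroup F] [Module R F] [AddCommGroup F'] [Module R F']
    (a : F →ₗ[R] F') (σ : Equiv.Perm (Fin n)) (x : ⨂[R] _ : Fin n, F) :
    PiTensorProduct.map (fun _ : Fin n => a) (PiTensorProduct.reindex R (fun _ : Fin n => F) σ x) =
      PiTensorProduct.reindex R (fun _ : Fin n => F') σ (PiTensorProduct.map (fun _ : Fin n => a) x) := by
  induction x using PiTensorProduct.induction_on with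
  | smul_tprod r f =>
    simp only [map_smul, PiTensorProduct.reindex_tprod, PiTensorProduct.map_tprod]
  | add x y hx hy => simp only [map_add, hx, hy]

theorem map_surjective {F F' : Type u} [AddCommGroup F] [Module R F] [AddCommGroup F'] [Module R F']
    (a : F →ₗ[R] F') (ha : Function.Surjective a) :
    Function.Surjective (PiTensorProduct.map (fun _ : Fin n => a)) := by
  intro x
  induction x using PiTensorProduct.induction_on with
  | smul_tprod r f =>
    refine ⟨r • PiTensorProduct.tprod R (fun i => Function.surjInv ha (f i)), ?_⟩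
    rw [map_smul, PiTensorProduct.map_tprod]
    congr 2
    funext i
    exact Function.surjInv_eq ha (f i)
  | add x y hx hy =>
    obtain ⟨x', rfl⟩ := hx
    obtain ⟨y', rfl⟩ := hy
    exact ⟨x' + y', map_add _ _ _⟩

/-- Finitely many symmetric tensors of a flat module `M` satisfying one linear relation come from symmetric tensors of a
free module over `M` satisfying the same relation. -/
theorem exists_free_sym_lift (l : ℕ) (c : Fin l → R) (t : Fin l → ⨂[R] _ : Fin n, M)
    (ht : ∀ j, ∀ σ : Equiv.Perm (Fin n), PiTensorProduct.reindex R (fun _ : Fin n => M) σ (t j) = t j)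
    (hrel : ∑ j, c j • t j = 0) :
    ∃ (F : Type u) (_ : AddCommGroup F) (_ : Module R F) (_ : Module.Free R F) (y : F →ₗ[R] M)
      (s : Fin l → ⨂[R] _ : Fin n, F),
      (∀ j, ∀ σ : Equiv.Perm (Fin n), PiTensorProduct.reindex R (fun _ : Fin n => F) σ (s j) = s j) ∧
      (∀ j, PiTensorProduct.map (fun _ : Fin n => y) (s j) = t j) ∧ ∑ j, c j • s j = 0 := by
  classical
  let p : (M →₀ R) →ₗ[R] M := Finsupp.linearCombination R id
  have hp : Function.Surjective p := Finsupp.linearCombination_id_surjective R M
  choose s hs using fun j => map_surjective (n := n) p hp (t j)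
  let x : Option (Fin l × Equiv.Perm (Fin n)) → ⨂[R] _ : Fin n, (M →₀ R) := fun o =>
    match o with
    | none => ∑ j, c j • s j
    | some (j, σ) => PiTensorProduct.reindex R (fun _ : Fin n => (M →₀ R)) σ (s j) - s j
  have hx : ∀ o ∈ (Finset.univ : Finset (Option (Fin l × Equiv.Perm (Fin n)))), x o ∈ kerSpan n p := by
    rintro (_ | ⟨j, σ⟩) _
    · apply ker_map_le p hp
      show PiTensorProduct.map (fun _ : Fin n => p) (∑ j, c j • s j) = 0
      rw [map_sum]
      simp only [map_smul, hs, hrel]
    · apply ker_map_le p hp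
      show PiTensorProduct.map (fun _ : Fin n => p) (_ - _) = 0
      rw [map_sub, map_reindex, hs, ht, sub_self]
  obtain ⟨F, i1, i2, i3, a, y, hy, ha⟩ := exists_kill_finset Finset.univ p x hx
  refine ⟨F, i1, i2, i3, y, fun j => PiTensorProduct.map (fun _ : Fin n => a) (s j), ?_, ?_, ?_⟩
  · intro j σ
    have := ha (some (j, σ)) (Finset.mem_univ _)
    change PiTensorProduct.map (fun _ : Fin n => a) (_ - _) = 0 at this
    rw [map_sub, sub_eq_zero, map_reindex] at this
    exact this
  · intro j
    rw [← LinearMap.comp_apply, ← PiTensorProduct.map_comp]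
    have e : (fun _ : Fin n => y ∘ₗ a) = fun _ : Fin n => p := by rw [hy]
    rw [e, hs]
  · have := ha none (Finset.mem_univ _)
    change PiTensorProduct.map (fun _ : Fin n => a) (∑ j, c j • s j) = 0 at this
    rw [map_sum] at this
    simpa only [map_smul] using this

end Kill

end K937.Laz
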