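import Mathlib.LinearAlgebra.PiTensorProduct.Basis
import Mathlib.LinearAlgebra.FreeModule.Basic
import Mathlib.LinearAlgebra.Finsupp.LSum
import Mathlib.RingTheory.Flat.Basic
import Groth.Agent.SymTen.K937.Lazard

/-!
# Symmetric tensors of a free module

* `K937.FreeInv.symT R n F`: the submodule of symmetric tensors of `T^n F`.
* `K937.FreeInv.free_symT`: it is free when `F` is free.
* `K937.FreeInv.mem_span_orbit`: for a basis `b`, the symmetric tensors are spanned by the orbit sums of the basis
  tensors.
* `K937.FreeInv.flat_symT`: it is flat when `F` is flat.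
-/

universe u
open scoped TensorProduct

namespace K937.FreeInv

variable (R : Type u) [CommRing R] (n : ℕ)

/-- The symmetric tensors. -/
noncomputable def symT (F : Type u) [AddCommGroup F] [Module R F] : Submodule R (⨂[R] _ : Fin n, F) :=
  ⨅ σ : Equiv.Perm (Fin n),
      LinearMap.eqLocus (PiTensorProduct.reindex R (fun _ : Fin n => F) σ).toLinearMap LinearMap.id

variable {R n}

theorem mem_symT {F : Type u} [AddCommGroup F] [Module R F] {t : ⨂[R] _ : Fin n, F} :
    t ∈ symT R n F ↔ ∀ σ : Equiv.Perm (Fin n), PiTensorProduct.reindex R (fun _ : Fin n => F) σ t = t := by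
  rw [symT, Submodule.mem_iInf]
  rfl

section Basis

variable {F : Type u} [AddCommGroup F] [Module R F] {ι : Type u} (b : Module.Basis ι R F)

/-- The basis of the tensor power. -/
noncomputable def tb : Module.Basis (Fin n → ι) R (⨂[R] _ : Fin n, F) :=
  Basis.piTensorProduct (fun _ : Fin n => b)

theorem tb_apply (p : Fin n → ι) : tb (n := n) b p = PiTensorProduct.tprod R (fun i => b (p i)) :=
  Basis.piTensorProduct_apply _ _

theorem tb_repr_reindex (σ : Equiv.Perm (Fin n)) (t : ⨂[R] _ : Fin n, F) (p : Fin n → ι) :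
    (tb b).repr (PiTensorProduct.reindex R (fun _ : Fin n => F) σ t) p = (tb b).repr t (fun i => p (σ i)) := by
  induction t using PiTensorProduct.induction_on with
  | smul_tprod r f =>
    simp only [map_smul, PiTensorProduct.reindex_tprod, Finsupp.smul_apply, tb,
      Basis.piTensorProduct_repr_tprod_apply]
    congr 1
    refine (Equiv.prod_comp σ (fun i => (b.repr (f (σ.symm i))) (p i))).symm.trans ?_
    refine Finset.prod_congr rfl fun i _ => ?_
    rw [Equiv.symm_apply_apply]
  | add x y hx hy => simp only [map_add, Finsupp.add_apply, hx, hy]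

theorem mem_symT_iff {t : ⨂[R] _ : Fin n, F} :
    t ∈ symT R n F ↔ ∀ (σ : Equiv.Perm (Fin n)) (p : Fin n → ι),
      (tb b).repr t (fun i => p (σ i)) = (tb b).repr t p := by
  rw [mem_symT]
  constructor
  · intro h σ p
    rw [← tb_repr_reindex, h]
  · intro h σ
    apply (tb (n := n) b).ext_elem
    intro p
    rw [tb_repr_reindex, h]

variable (n ι) in
/-- The orbit relation on index functions. -/
def orb : Setoid (Fin n → ι) where
  r p q := ∃ σ : Equiv.Perm (Fin n), (fun i => p (σ i)) = q
  iseqv :=
    { refl := fun p => ⟨1, rfl⟩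
      symm := by
        rintro p q ⟨σ, rfl⟩
        exact ⟨σ⁻¹, by funext i; simp⟩
      trans := by
        rintro p q r ⟨σ, rfl⟩ ⟨τ, rfl⟩
        exact ⟨σ * τ, rfl⟩ }

theorem repr_eq_of_rel {t : ⨂[R] _ : Fin n, F} (ht : t ∈ symT R n F) {p q : Fin n → ι}
    (h : (orb n ι).r p q) : (tb b).repr t p = (tb b).repr t q := by
  obtain ⟨σ, rfl⟩ := h
  exact ((mem_symT_iff b).mp ht σ p).symm

/-- The coordinate map to functions on the orbit set. -/
noncomputable def toOrb : symT R n F →ₗ[R] (Quotient (orb n ι) →₀ R) :=
  (Finsupp.lcomapDomain (Quotient.out (s := orb n ι)) (Quotient.out_injective)) ∘ₗ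
    (tb b).repr.toLinearMap ∘ₗ (symT R n F).subtype

theorem toOrb_apply (t : symT R n F) (q : Quotient (orb n ι)) :
    toOrb b t q = (tb b).repr t.1 q.out := rfl

theorem toOrb_mk (t : symT R n F) (p : Fin n → ι) :
    toOrb b t (Quotient.mk _ p) = (tb b).repr t.1 p := by
  rw [toOrb_apply]
  apply repr_eq_of_rel b t.2
  exact Quotient.exact (s := orb n ι) (Quotient.out_eq _)

theorem toOrb_bijective : Function.Bijective (toOrb (R := R) (n := n) b) := by
  classical
  constructor
  · intro s t h
    apply Subtype.ext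
    apply (tb (n := n) b).ext_elem
    intro p
    rw [← toOrb_mk, ← toOrb_mk, h]
  · intro f
    have hfin : Set.Finite (Function.support (fun p : Fin n → ι => f (Quotient.mk (orb n ι) p))) := by
      have h1 : (Function.support (fun p : Fin n → ι => f (Quotient.mk (orb n ι) p))) ⊆
          ⋃ q ∈ f.support, Set.range (fun σ : Equiv.Perm (Fin n) => fun i => (Quotient.out q) (σ i)) := by
        intro p hp
        simp only [Set.mem_iUnion]
        refine ⟨Quotient.mk (orb n ι) p, Finsupp.mem_support_iff.mpr hp, ?_⟩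
        have : (orb n ι).r (Quotient.out (Quotient.mk (orb n ι) p)) p :=
          Quotient.exact (s := orb n ι) (Quotient.out_eq _)
        exact this
      exact (Set.Finite.biUnion f.support.finite_toSet (fun q _ => Set.finite_range _)).subset h1
    let g : (Fin n → ι) →₀ R := Finsupp.ofSupportFinite (fun p => f (Quotient.mk (orb n ι) p)) hfin
    have hg : ∀ p, g p = f (Quotient.mk (orb n ι) p) := fun p => rfl
    have hmem : (tb b).repr.symm g ∈ symT R n F := by
      rw [mem_symT_iff b]
      intro σ p
      rw [LinearEquiv.apply_symm_apply, hg, hg]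
      congr 1
      apply Quotient.sound (s := orb n ι)
      exact (orb n ι).symm ⟨σ, rfl⟩
    refine ⟨⟨_, hmem⟩, ?_⟩
    ext q
    rw [toOrb_apply]
    show (tb b).repr ((tb b).repr.symm g) q.out = _
    rw [LinearEquiv.apply_symm_apply, hg, Quotient.out_eq]

theorem free_symT [Module.Free R F] : Module.Free R (symT R n F) :=
  Module.Free.of_equiv (LinearEquiv.ofBijective _
    (toOrb_bijective (R := R) (n := n) (Module.Free.chooseBasis R F))).symm

/-- Symmetric tensors are spanned by the orbit sums of basis tensors. -/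
theorem mem_span_orbit {t : ⨂[R] _ : Fin n, F} (ht : t ∈ symT R n F) :
    t ∈ Submodule.span R {x : ⨂[R] _ : Fin n, F | ∃ (O : Finset (Fin n → ι)),
      (∀ p ∈ O, ∀ σ : Equiv.Perm (Fin n), (fun i => p (σ i)) ∈ O) ∧
      x = ∑ p ∈ O, PiTensorProduct.tprod R (fun i => b (p i))} := by
  classical
  let g := (tb (n := n) b).repr t
  have h1 : t = ∑ p ∈ g.support, g p • tb b p := by
    have := (tb (n := n) b).linearCombination_repr t
    rw [Finsupp.linearCombination_apply, Finsupp.sum] at this
    exact this.symm
  have h2 : ∑ p ∈ g.support, g p • tb b p =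
      ∑ q ∈ g.support.image (Quotient.mk (orb n ι)), ∑ p ∈ g.support with Quotient.mk (orb n ι) p = q,
        g p • tb b p :=
    (Finset.sum_fiberwise_of_maps_to (fun p hp => Finset.mem_image_of_mem _ hp) _).symm
  rw [h1, h2]
  refine Submodule.sum_mem _ fun q _ => ?_
  have h3 : ∑ p ∈ g.support with Quotient.mk (orb n ι) p = q, g p • tb b p =
      g q.out • ∑ p ∈ g.support with Quotient.mk (orb n ι) p = q, tb b p := by
    rw [Finset.smul_sum]
    refine Finset.sum_congr rfl fun p hp => ?_
    have hp' := (Finset.mem_filter.mp hp).2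
    congr 1
    apply repr_eq_of_rel b ht
    have : Quotient.mk (orb n ι) p = Quotient.mk (orb n ι) q.out := by rw [hp', Quotient.out_eq]
    exact Quotient.exact (s := orb n ι) this
  rw [h3]
  refine Submodule.smul_mem _ _ (Submodule.subset_span
    ⟨g.support.filter (fun p => Quotient.mk (orb n ι) p = q), ?_, ?_⟩)
  · intro p hp σ
    rw [Finset.mem_filter, Finsupp.mem_support_iff] at hp ⊢
    have hrel : (orb n ι).r p (fun i => p (σ i)) := ⟨σ, rfl⟩
    refine ⟨?_, ?_⟩
    · have : g (fun i => p (σ i)) = g p := (repr_eq_of_rel b ht hrel).symm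
      rw [this]
      exact hp.1
    · rw [← hp.2]
      exact (Quotient.sound (s := orb n ι) hrel).symm
  · exact Finset.sum_congr rfl fun p _ => tb_apply b p

end Basis

theorem map_mem_symT {F F' : Type u} [AddCommGroup F] [Module R F] [AddCommGroup F'] [Module R F']
    (a : F →ₗ[R] F') {t : ⨂[R] _ : Fin n, F} (ht : t ∈ symT R n F) :
    PiTensorProduct.map (fun _ : Fin n => a) t ∈ symT R n F' := by
  rw [mem_symT] at ht ⊢
  intro σ
  rw [← K937.Laz.map_reindex, ht]

theorem flat_symT (M : Type u) [AddCommGroup M] [Module R M] [Module.Flat R M] :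
    Module.Flat R (symT R n M) := by
  rw [Module.Flat.iff_forall_isTrivialRelation]
  intro l c x hx
  obtain ⟨F, i1, i2, i3, y, s, hs1, hs2, hs3⟩ := K937.Laz.exists_free_sym_lift (R := R) (M := M) (n := n) l
    c (fun j => (x j).1) (fun j => mem_symT.mp (x j).2) (by
      have := congrArg Subtype.val hx
      simpa using this)
  have : Module.Free R (symT R n F) := free_symT
  let s' : Fin l → symT R n F := fun j => ⟨s j, mem_symT.mpr (hs1 j)⟩
  have hs3' : ∑ j, c j • s' j = 0 := by
    apply Subtype.ext
    simpa [s'] using hs3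
  obtain ⟨k, a, z, hz, ha⟩ := Module.Flat.isTrivialRelation_of_sum_smul_eq_zero hs3'
  refine ⟨k, a, fun j => ⟨PiTensorProduct.map (fun _ : Fin n => y) (z j).1, map_mem_symT y (z j).2⟩, ?_, ha⟩
  intro i
  apply Subtype.ext
  have h1 := congrArg Subtype.val (hz i)
  simp only [Submodule.coe_sum, Submodule.coe_smul] at h1 ⊢
  rw [← hs2 i]
  have h2 : (s' i).1 = s i := rfl
  rw [h2] at h1
  rw [h1, map_sum]
  simp only [map_smul]

end K937.FreeInv
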