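import Groth.Agent.SymTen.K937.FreeInv
import Groth.Prelude.Def_SymTen
import Mathlib.Algebra.BigOperators.Ring.Finset
import Mathlib.RingTheory.Adjoin.Basic
import Mathlib.Tactic

/-!
# The symmetric tensors of a flat algebra are generated by the elementary symmetric tensors

`K937.Msym.TS_eq_adjoin` : for `A` flat over `R`, `TS^n_R(A)` is the subalgebra generated by the `σ_j(a)`.
-/

universe u
open scoped TensorProduct

namespace K937.Msym

section Orbits

variable {n : ℕ} {ι : Type u}

theorem exists_perm_of_card_fiber [DecidableEq ι] (p q : Fin n → ι)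
    (h : ∀ i, (Finset.univ.filter fun k => p k = i).card = (Finset.univ.filter fun k => q k = i).card) :
    ∃ σ : Equiv.Perm (Fin n), (fun k => p (σ k)) = q := by
  classical
  have e : ∀ i, {k // q k = i} ≃ {k // p k = i} := fun i =>
    Fintype.equivOfCardEq (by
      rw [Fintype.card_subtype, Fintype.card_subtype, h])
  let σ : Equiv.Perm (Fin n) :=
    (Equiv.sigmaFiberEquiv q).symm.trans ((Equiv.sigmaCongrRight e).trans (Equiv.sigmaFiberEquiv p))
  refine ⟨σ, ?_⟩
  funext k
  exact (e (q k) ⟨k, rfl⟩).2

theorem card_fiber_star [DecidableEq ι] (p q : Fin n → ι) (star : ι)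
    (h : ∀ i, i ≠ star → (Finset.univ.filter fun k => p k = i).card = (Finset.univ.filter fun k => q k = i).card)
    (i : ι) : (Finset.univ.filter fun k => p k = i).card = (Finset.univ.filter fun k => q k = i).card := by
  classical
  by_cases hi : i = star
  · subst hi
    let t : Finset ι := insert i (Finset.univ.image p ∪ Finset.univ.image q)
    have h1 : (Finset.univ : Finset (Fin n)).card = ∑ j ∈ t, (Finset.univ.filter fun k => p k = j).card :=
      Finset.card_eq_sum_card_fiberwise (fun k _ => by simp [t])
    have h2 : (Finset.univ : Finset (Fin n)).card = ∑ j ∈ t, (Finset.univ.filter fun k => q k = j).card :=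
      Finset.card_eq_sum_card_fiberwise (fun k _ => by simp [t])
    have hit : i ∈ t := Finset.mem_insert_self _ _
    rw [h1, ← Finset.add_sum_erase _ _ hit, ← Finset.add_sum_erase _ _ hit] at h2
    have h3 : ∑ j ∈ t.erase i, (Finset.univ.filter fun k => p k = j).card =
        ∑ j ∈ t.erase i, (Finset.univ.filter fun k => q k = j).card :=
      Finset.sum_congr rfl fun j hj => h j (Finset.ne_of_mem_erase hj)
    omega
  · exact h i hi

theorem card_fiber_of_perm [DecidableEq ι] (p : Fin n → ι) (σ : Equiv.Perm (Fin n)) (i : ι) :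
    (Finset.univ.filter fun k => p (σ k) = i).card = (Finset.univ.filter fun k => p k = i).card := by
  refine Finset.card_bij (fun k _ => σ k) ?_ ?_ ?_
  · intro k hk
    simpa using hk
  · intro a _ b _ h
    exact σ.injective h
  · intro k hk
    exact ⟨σ.symm k, by simpa using hk, by simp⟩

end Orbits

variable {R : Type u} [CommRing R] {A : Type u} [CommRing A] [Algebra R A] (n : ℕ)

variable (R) in
/-- The elementary symmetric tensor `σ_j(a)`. -/
noncomputable def sg (a : A) (j : ℕ) : ⨂[R] _ : Fin n, A :=
  ∑ I ∈ (Finset.univ : Finset (Fin n)).powersetCard j,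
    PiTensorProduct.tprod R (fun i : Fin n => if i ∈ I then a else (1 : A))

variable (R A) in
/-- The subalgebra generated by the elementary symmetric tensors. -/
noncomputable def SS : Subalgebra R (⨂[R] _ : Fin n, A) :=
  Algebra.adjoin R {t : ⨂[R] _ : Fin n, A | ∃ (a : A) (j : ℕ), t = sg R n a j}

theorem sg_mem (a : A) (j : ℕ) : sg R n a j ∈ SS R A n := Algebra.subset_adjoin ⟨a, j, rfl⟩

theorem reindex_sg (a : A) (j : ℕ) (σ : Equiv.Perm (Fin n)) :
    PiTensorProduct.reindex R (fun _ : Fin n => A) σ (sg R n a j) = sg R n a j := by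
  classical
  rw [sg, map_sum]
  refine Finset.sum_bij (fun I _ => I.map σ.toEmbedding) ?_ ?_ ?_ ?_
  · intro I hI
    rw [Finset.mem_powersetCard] at hI ⊢
    exact ⟨Finset.subset_univ _, by rw [Finset.card_map]; exact hI.2⟩
  · intro I _ J _ h
    exact Finset.map_injective _ h
  · intro J hJ
    rw [Finset.mem_powersetCard] at hJ
    refine ⟨J.map σ.symm.toEmbedding, ?_, ?_⟩
    · rw [Finset.mem_powersetCard]
      exact ⟨Finset.subset_univ _, by rw [Finset.card_map]; exact hJ.2⟩
    · ext x
      simp
  · intro I _
    rw [PiTensorProduct.reindex_tprod]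
    congr 1
    funext i
    simp

theorem SS_le_TS : SS R A n ≤ SymTen.TS R A n := by
  rw [SS, Algebra.adjoin_le_iff]
  rintro _ ⟨a, j, rfl⟩ σ
  exact reindex_sg n a j σ

variable {n}

/-- Product of the elementary symmetric tensors, expanded over set-valued functions. -/
theorem prod_sg_eq {T : Type u} [Fintype T] [DecidableEq T] (v : T → A) (m : T → ℕ) :
    ∏ i : T, sg R n (v i) (m i) =
      ∑ τ ∈ (Finset.univ : Finset (Fin n → Finset T)).filter
        (fun τ => ∀ i, (Finset.univ.filter fun k => i ∈ τ k).card = m i),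
        PiTensorProduct.tprod R (fun k => ∏ i ∈ τ k, v i) := by
  classical
  simp only [sg]
  rw [Finset.prod_univ_sum]
  refine Finset.sum_bij' (fun I _ => fun k => Finset.univ.filter fun i => k ∈ I i)
    (fun τ _ => fun i => Finset.univ.filter fun k => i ∈ τ k) ?_ ?_ ?_ ?_ ?_
  · intro I hI
    rw [Fintype.mem_piFinset] at hI
    rw [Finset.mem_filter]
    refine ⟨Finset.mem_univ _, fun i => ?_⟩
    have := (Finset.mem_powersetCard.mp (hI i)).2
    rw [← this]
    congr 1
    ext k
    simp
  · intro τ hτ
    rw [Finset.mem_filter] at hτ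
    rw [Fintype.mem_piFinset]
    intro i
    rw [Finset.mem_powersetCard]
    exact ⟨Finset.subset_univ _, hτ.2 i⟩
  · intro I _
    funext i
    ext k
    simp
  · intro τ _
    funext k
    ext i
    simp
  · intro I _
    rw [← PiTensorProduct.tprod_prod]
    congr 1
    funext k
    rw [Finset.prod_apply, Finset.prod_filter]

/-- The orbit case of the main claim, given the claim for fewer occupied slots. -/
theorem orbit_mem (N : ℕ)
    (IH : ∀ N' < N, ∀ (κ : Type u) (v : κ → A) (star : κ), v star = 1 → ∀ O : Finset (Fin n → κ),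
      (∀ p ∈ O, ∀ σ : Equiv.Perm (Fin n), (fun i => p (σ i)) ∈ O) →
      (∀ p ∈ O, Set.ncard {k | p k ≠ star} ≤ N') →
      ∑ p ∈ O, PiTensorProduct.tprod R (fun k => v (p k)) ∈ SS R A n)
    {ι : Type u} (v : ι → A) (star : ι) (hstar : v star = 1) (O : Finset (Fin n → ι)) (p₀ : Fin n → ι)
    (hO : ∀ p, p ∈ O ↔ ∃ σ : Equiv.Perm (Fin n), (fun i => p₀ (σ i)) = p)
    (hN : Set.ncard {k | p₀ k ≠ star} ≤ N) :
    ∑ p ∈ O, PiTensorProduct.tprod R (fun k => v (p k)) ∈ SS R A n := by
  classical
  let T : Finset ι := (Finset.univ.image p₀).erase star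
  have hT : ∀ k, p₀ k ≠ star → p₀ k ∈ T := fun k hk =>
    Finset.mem_erase.mpr ⟨hk, Finset.mem_image_of_mem _ (Finset.mem_univ _)⟩
  have hTs : ∀ i ∈ T, i ≠ star := fun i hi => Finset.ne_of_mem_erase hi
  let m : T → ℕ := fun i => (Finset.univ.filter fun k => p₀ k = i).card
  let v' : Finset T → A := fun S => ∏ i ∈ S, v i
  let X : Finset (Fin n → Finset T) := (Finset.univ : Finset (Fin n → Finset T)).filter
        (fun τ => ∀ i, (Finset.univ.filter fun k => i ∈ τ k).card = m i)
  have hX : ∏ i : T, sg R n (v i) (m i) = ∑ τ ∈ X, PiTensorProduct.tprod R (fun k => v' (τ k)) :=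
    prod_sg_eq (fun i : T => v i) m
  have hXmem : ∑ τ ∈ X, PiTensorProduct.tprod R (fun k => v' (τ k)) ∈ SS R A n := by
    rw [← hX]
    exact Subalgebra.prod_mem _ fun i _ => sg_mem n _ _
  let X1 := X.filter (fun τ => ∀ k, (τ k).card ≤ 1)
  let X2 := X.filter (fun τ => ¬ ∀ k, (τ k).card ≤ 1)
  have hsplit : ∑ τ ∈ X1, PiTensorProduct.tprod R (fun k => v' (τ k)) +
      ∑ τ ∈ X2, PiTensorProduct.tprod R (fun k => v' (τ k)) =
      ∑ τ ∈ X, PiTensorProduct.tprod R (fun k => v' (τ k)) := Finset.sum_filter_add_sum_filter_not _ _ _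
  -- the number of occupied slots
  have hocc : ∑ i : T, m i = (Finset.univ.filter fun k => p₀ k ≠ star).card := by
    have h1 : (Finset.univ.filter fun k => p₀ k ≠ star).card =
        ∑ i ∈ T, ((Finset.univ.filter fun k => p₀ k ≠ star).filter fun k => p₀ k = i).card :=
      Finset.card_eq_sum_card_fiberwise (fun k hk => hT k (by simpa using hk))
    rw [h1, ← Finset.sum_coe_sort T]
    refine Finset.sum_congr rfl fun i _ => ?_
    show (Finset.univ.filter fun k => p₀ k = i).card = _
    congr 1
    ext k
    simp only [Finset.mem_filter, Finset.mem_univ, true_and]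
    constructor
    · intro h
      exact ⟨by rw [h]; exact hTs _ i.2, h⟩
    · exact fun h => h.2
  have hX2occ : ∀ τ ∈ X2, Set.ncard {k | τ k ≠ ∅} < N := by
    intro τ hτ
    obtain ⟨hτX, hτ2⟩ := Finset.mem_filter.mp hτ
    have hτm := (Finset.mem_filter.mp hτX).2
    push Not at hτ2
    obtain ⟨k₀, hk₀⟩ := hτ2
    have h1 : ∑ k, (τ k).card = ∑ i : T, m i := by
      have : ∀ k, (τ k).card = ∑ i : T, if i ∈ τ k then 1 else 0 := by
        intro k
        rw [Finset.sum_boole, Nat.cast_id]
        congr 1
        ext i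
        simp
      simp_rw [this]
      rw [Finset.sum_comm]
      refine Finset.sum_congr rfl fun i _ => ?_
      rw [Finset.sum_boole, ← hτm i]
      simp
    have h2 : Set.ncard {k | τ k ≠ ∅} = ∑ k, if τ k ≠ ∅ then 1 else 0 := by
      rw [Finset.sum_boole, Set.ncard_eq_toFinset_card']
      simp
    have h3 : Set.ncard {k | p₀ k ≠ star} = (Finset.univ.filter fun k => p₀ k ≠ star).card := by
      rw [Set.ncard_eq_toFinset_card']
      congr 1
      ext k
      simp
    have h4 : (∑ k, if τ k ≠ ∅ then 1 else 0) < ∑ k, (τ k).card := by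
      refine Finset.sum_lt_sum ?_ ⟨k₀, Finset.mem_univ _, ?_⟩
      · intro k _
        split_ifs with h
        · exact Finset.card_pos.mpr (Finset.nonempty_iff_ne_empty.mpr h)
        · exact Nat.zero_le _
      · have : τ k₀ ≠ ∅ := by
          intro h
          rw [h] at hk₀
          simp at hk₀
        rw [if_pos this]
        exact hk₀
    omega
  have hstableX : ∀ τ ∈ X, ∀ σ : Equiv.Perm (Fin n), (fun i => τ (σ i)) ∈ X := by
    intro τ hτ σ
    rw [Finset.mem_filter] at hτ ⊢
    refine ⟨Finset.mem_univ _, fun i => ?_⟩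
    rw [← hτ.2 i]
    refine Finset.card_bij (fun k _ => σ k) ?_ ?_ ?_
    · intro k hk
      simpa using hk
    · intro a _ b _ h
      exact σ.injective h
    · intro k hk
      exact ⟨σ.symm k, by simpa using hk, by simp⟩
  have hX2mem : ∑ τ ∈ X2, PiTensorProduct.tprod R (fun k => v' (τ k)) ∈ SS R A n := by
    rcases X2.eq_empty_or_nonempty with h | ⟨τ₀, hτ₀⟩
    · rw [h, Finset.sum_empty]
      exact Subalgebra.zero_mem _
    · have hpos := hX2occ τ₀ hτ₀
      refine IH (N - 1) (by omega) (Finset T) v' ∅ (Finset.prod_empty) X2 ?_ ?_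
      · intro τ hτ σ
        rw [Finset.mem_filter] at hτ ⊢
        refine ⟨hstableX τ hτ.1 σ, fun h => hτ.2 fun k => ?_⟩
        have := h (σ.symm k)
        simpa using this
      · intro τ hτ
        have := hX2occ τ hτ
        omega
  have hX1mem : ∑ τ ∈ X1, PiTensorProduct.tprod R (fun k => v' (τ k)) ∈ SS R A n := by
    have := Subalgebra.sub_mem _ hXmem hX2mem
    rwa [← hsplit, add_sub_cancel_right] at this
  -- the bijection between the orbit and `X1`
  have hOT : ∀ p ∈ O, ∀ k, p k ∉ T → p k = star := by
    intro p hp k hk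
    obtain ⟨σ, rfl⟩ := (hO p).mp hp
    by_contra hcon
    exact hk (hT _ hcon)
  have hbij : ∑ p ∈ O, PiTensorProduct.tprod R (fun k => v (p k)) =
      ∑ τ ∈ X1, PiTensorProduct.tprod R (fun k => v' (τ k)) := by
    refine Finset.sum_bij (fun p _ => fun k => if h : p k ∈ T then {⟨p k, h⟩} else ∅) ?_ ?_ ?_ ?_
    · intro p hp
      rw [Finset.mem_filter, Finset.mem_filter]
      refine ⟨⟨Finset.mem_univ _, fun i => ?_⟩, fun k => ?_⟩
      · obtain ⟨σ, hσ⟩ := (hO p).mp hp
        have h1 := card_fiber_of_perm p₀ σ i.1
        have h2 : (Finset.univ.filter fun k => p₀ (σ k) = i.1) =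
            (Finset.univ.filter fun k => i ∈ (if h : p k ∈ T then ({⟨p k, h⟩} : Finset T) else ∅)) := by
          ext k
          have h3 : p₀ (σ k) = p k := congrFun hσ k
          simp only [Finset.mem_filter, Finset.mem_univ, true_and, h3]
          constructor
          · intro h
            have h4 : p k ∈ T := by rw [h]; exact i.2
            rw [dif_pos h4, Finset.mem_singleton]
            exact Subtype.ext h.symm
          · intro h
            split_ifs at h with h4
            · rw [Finset.mem_singleton] at h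
              rw [h]
            · simp at h
        rw [← h2]
        exact h1
      · show (if h : p k ∈ T then ({⟨p k, h⟩} : Finset T) else ∅).card ≤ 1
        split_ifs <;> simp
    · intro p hp q hq h
      funext k
      have hk := congrFun h k
      by_cases h1 : p k ∈ T
      · by_cases h2 : q k ∈ T
        · rw [dif_pos h1, dif_pos h2, Finset.singleton_inj] at hk
          exact congrArg Subtype.val hk
        · rw [dif_pos h1, dif_neg h2] at hk
          exact absurd hk (Finset.singleton_ne_empty _)
      · by_cases h2 : q k ∈ T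
        · rw [dif_neg h1, dif_pos h2] at hk
          exact absurd hk.symm (Finset.singleton_ne_empty _)
        · rw [hOT p hp k h1, hOT q hq k h2]
    · intro τ hτ
      obtain ⟨hτX, hτ1⟩ := Finset.mem_filter.mp hτ
      have hτm := (Finset.mem_filter.mp hτX).2
      let p : Fin n → ι := fun k => if h : (τ k).Nonempty then (h.choose : ι) else star
      have hp : ∀ (k : Fin n) (i : T), p k = i ↔ i ∈ τ k := by
        intro k i
        constructor
        · intro h
          by_cases hne : (τ k).Nonempty
          · have h1 : p k = (hne.choose : ι) := dif_pos hne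
            have h2 : hne.choose = i := Subtype.ext (h1.symm.trans h)
            rw [← h2]
            exact hne.choose_spec
          · have h1 : p k = star := dif_neg hne
            exact absurd (h.symm.trans h1) (hTs _ i.2)
        · intro h
          have hne : (τ k).Nonempty := ⟨i, h⟩
          have h1 : p k = (hne.choose : ι) := dif_pos hne
          rw [h1]
          have := Finset.card_le_one.mp (hτ1 k) _ hne.choose_spec _ h
          rw [this]
      have hpT : ∀ k, p k ∈ T ∨ p k = star := by
        intro k
        by_cases hne : (τ k).Nonempty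
        · left
          have h1 : p k = (hne.choose : ι) := dif_pos hne
          rw [h1]
          exact (hne.choose).2
        · right
          exact dif_neg hne
      have hcard : ∀ i, i ≠ star → (Finset.univ.filter fun k => p₀ k = i).card =
          (Finset.univ.filter fun k => p k = i).card := by
        intro i hi
        by_cases hiT : i ∈ T
        · have h1 := hτm ⟨i, hiT⟩
          show m ⟨i, hiT⟩ = _
          rw [← h1]
          congr 1
          ext k
          simp only [Finset.mem_filter, Finset.mem_univ, true_and]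
          exact (hp k ⟨i, hiT⟩).symm
        · rw [Finset.card_eq_zero.mpr, Finset.card_eq_zero.mpr]
          · rw [Finset.filter_eq_empty_iff]
            intro k _ hk
            rcases hpT k with h | h
            · exact hiT (hk ▸ h)
            · exact hi (hk.symm.trans h)
          · rw [Finset.filter_eq_empty_iff]
            intro k _ hk
            exact hiT (hk ▸ hT k (by rw [hk]; exact hi))
      obtain ⟨σ, hσ⟩ := exists_perm_of_card_fiber p₀ p (card_fiber_star p₀ p star hcard)
      refine ⟨p, (hO p).mpr ⟨σ, hσ⟩, ?_⟩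
      funext k
      ext i
      by_cases h1 : p k ∈ T
      · rw [dif_pos h1, Finset.mem_singleton, ← hp k i]
        exact ⟨fun h => by rw [h], fun h => Subtype.ext h.symm⟩
      · rw [dif_neg h1, ← hp k i]
        constructor
        · intro h
          exact absurd h (Finset.notMem_empty _)
        · intro h
          exact absurd (h ▸ i.2) h1
    · intro p hp
      congr 1
      funext k
      show v (p k) = ∏ i ∈ (if h : p k ∈ T then ({⟨p k, h⟩} : Finset T) else ∅), v i
      by_cases h1 : p k ∈ T
      · rw [dif_pos h1, Finset.prod_singleton]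
      · rw [dif_neg h1, Finset.prod_empty, hOT p hp k h1, hstar]
  rw [hbij]
  exact hX1mem

/-- The main claim: sums over stable finite sets of index functions lie in the subalgebra generated by the elementary
symmetric tensors. -/
theorem stable_mem (N : ℕ) : ∀ (κ : Type u) (v : κ → A) (star : κ), v star = 1 → ∀ O : Finset (Fin n → κ),
      (∀ p ∈ O, ∀ σ : Equiv.Perm (Fin n), (fun i => p (σ i)) ∈ O) →
      (∀ p ∈ O, Set.ncard {k | p k ≠ star} ≤ N) →
      ∑ p ∈ O, PiTensorProduct.tprod R (fun k => v (p k)) ∈ SS R A n := by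
  classical
  induction N using Nat.strong_induction_on with
  | _ N IH =>
    intro κ v star hstar O hstable hocc
    rw [← Finset.sum_fiberwise_of_maps_to (t := O.image (Quotient.mk (K937.FreeInv.orb n κ)))
      (g := Quotient.mk (K937.FreeInv.orb n κ)) (fun p hp => Finset.mem_image_of_mem _ hp)]
    refine Subalgebra.sum_mem _ fun q hq => ?_
    obtain ⟨p₀, hp₀, rfl⟩ := Finset.mem_image.mp hq
    refine orbit_mem N IH v star hstar _ p₀ ?_ (hocc p₀ hp₀)
    intro p
    rw [Finset.mem_filter]
    constructor
    · rintro ⟨_, h⟩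
      exact Quotient.exact (s := K937.FreeInv.orb n κ) h.symm
    · rintro ⟨σ, rfl⟩
      exact ⟨hstable p₀ hp₀ σ, (Quotient.sound (s := K937.FreeInv.orb n κ) ⟨σ, rfl⟩).symm⟩

theorem stable_mem' {ι : Type u} (v : ι → A) (O : Finset (Fin n → ι))
    (hO : ∀ p ∈ O, ∀ σ : Equiv.Perm (Fin n), (fun i => p (σ i)) ∈ O) :
    ∑ p ∈ O, PiTensorProduct.tprod R (fun k => v (p k)) ∈ SS R A n := by
  classical
  have h := stable_mem (R := R) (A := A) (n := n) n (Option ι) (fun o => o.elim 1 v) none rfl
    (O.image fun p k => some (p k)) ?_ ?_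
  · rw [Finset.sum_image] at h
    · exact h
    · intro p _ q _ hpq
      funext k
      exact Option.some_injective _ (congrFun hpq k)
  · intro p hp σ
    obtain ⟨q, hq, rfl⟩ := Finset.mem_image.mp hp
    exact Finset.mem_image.mpr ⟨_, hO q hq σ, rfl⟩
  · intro p _
    refine (Set.ncard_le_ncard (Set.subset_univ _)).trans ?_
    rw [Set.ncard_univ, Nat.card_eq_fintype_card, Fintype.card_fin]

variable (R A n) in
theorem TS_eq_adjoin [Module.Flat R A] : SymTen.TS R A n = SS R A n := by
  refine le_antisymm ?_ (SS_le_TS n)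
  intro t ht
  obtain ⟨F, i1, i2, i3, y, s, hs1, hs2, -⟩ := K937.Laz.exists_free_sym_lift (R := R) (M := A) (n := n) 1
    (fun _ => 0) (fun _ => t) (fun _ => ht) (by simp)
  let b := Module.Free.chooseBasis R F
  have h1 := K937.FreeInv.mem_span_orbit b (K937.FreeInv.mem_symT.mpr (hs1 0))
  rw [← hs2 0]
  have h2 : Submodule.map (PiTensorProduct.map (fun _ : Fin n => y))
      (Submodule.span R {x : ⨂[R] _ : Fin n, F | ∃ (O : Finset (Fin n → Module.Free.ChooseBasisIndex R F)),
      (∀ p ∈ O, ∀ σ : Equiv.Perm (Fin n), (fun i => p (σ i)) ∈ O) ∧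
      x = ∑ p ∈ O, PiTensorProduct.tprod R (fun i => b (p i))}) ≤ Subalgebra.toSubmodule (SS R A n) := by
    rw [Submodule.map_span, Submodule.span_le]
    rintro _ ⟨_, ⟨O, hO, rfl⟩, rfl⟩
    rw [map_sum]
    simp only [PiTensorProduct.map_tprod]
    exact stable_mem' (fun i => y (b i)) O hO
  exact h2 ⟨_, h1, rfl⟩

end K937.Msym
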