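import Mathlib.LinearAlgebra.ExteriorPower.Basis
import Mathlib.LinearAlgebra.Alternating.Basic
import Mathlib.LinearAlgebra.PiTensorProduct.Basis
import Mathlib.Algebra.Module.Projective
import Groth.Prelude.Def_SymTen
import Groth.Prelude.Def_W4c5normfunctorschNorm

/-!
# The alternating submodule of a tensor power and the antisymmetrizer

* `K937.Alt.asym R d : T^d P → T^d P` the antisymmetrizer `x ↦ Σ_σ sign σ • σ x`.
* `K937.Alt.mem_altSpan_iff_asym_eq_zero` : for `P` projective, `altSpan` is its kernel.
* `K937.Alt.tpowAct_mem_altSpan` : symmetric tensors of `A` preserve `altSpan R P d`.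
-/

universe u
open scoped TensorProduct

namespace K937.Alt

section
variable (R : Type u) [CommRing R] {P : Type u} [AddCommGroup P] [Module R P] (d : ℕ)

/-- The antisymmetrized pure tensor, as an alternating map. -/
noncomputable def asymAlt : P [⋀^Fin d]→ₗ[R] (⨂[R] _ : Fin d, P) :=
  MultilinearMap.alternatization (PiTensorProduct.tprod R)

/-- The antisymmetrizer. -/
noncomputable def asym : (⨂[R] _ : Fin d, P) →ₗ[R] (⨂[R] _ : Fin d, P) :=
  PiTensorProduct.lift (asymAlt R (P := P) d).toMultilinearMap

theorem asymAlt_apply (v : Fin d → P) :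
    asymAlt R d v = ∑ σ : Equiv.Perm (Fin d), Equiv.Perm.sign σ • PiTensorProduct.tprod R (fun i => v (σ i)) := by
  rw [asymAlt, MultilinearMap.alternatization_apply]
  rfl

theorem asym_tprod (v : Fin d → P) : asym R d (PiTensorProduct.tprod R v) = asymAlt R d v := by
  rw [asym, PiTensorProduct.lift.tprod]
  rfl

theorem asym_eq_sum (x : ⨂[R] _ : Fin d, P) :
    asym R d x = ∑ σ : Equiv.Perm (Fin d), Equiv.Perm.sign σ • PiTensorProduct.reindex R (fun _ : Fin d => P) σ x := by
  induction x using PiTensorProduct.induction_on with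
  | smul_tprod r f =>
    simp only [map_smul, asym_tprod, asymAlt_apply, PiTensorProduct.reindex_tprod]
    rw [Finset.smul_sum]
    rw [← Equiv.sum_comp (Equiv.inv (Equiv.Perm (Fin d)))]
    refine Finset.sum_congr rfl fun σ _ => ?_
    rw [smul_comm]
    simp
    rfl
  | add x y hx hy =>
    rw [map_add, hx, hy, ← Finset.sum_add_distrib]
    refine Finset.sum_congr rfl fun σ _ => ?_
    rw [map_add]
    rcases Int.units_eq_one_or (Equiv.Perm.sign σ) with h | h
    · simp [h]
    · simp [h, add_comm]

/-- The kernel of the map onto the exterior power. -/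
theorem mem_altSpan_of_lift_eq_zero (x : ⨂[R] _ : Fin d, P)
    (hx : PiTensorProduct.lift (exteriorPower.ιMulti R d (M := P)).toMultilinearMap x = 0) :
    x ∈ SymTen.altSpan R P d := by
  classical
  let q : P [⋀^Fin d]→ₗ[R] ((⨂[R] _ : Fin d, P) ⧸ SymTen.altSpan R P d) :=
    { (SymTen.altSpan R P d).mkQ.compMultilinearMap (PiTensorProduct.tprod R) with
      map_eq_zero_of_eq' := by
        intro v i j hij hne
        show (SymTen.altSpan R P d).mkQ (PiTensorProduct.tprod R v) = 0
        rw [Submodule.mkQ_apply, Submodule.Quotient.mk_eq_zero]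
        exact Submodule.subset_span ⟨v, i, j, hne, hij, rfl⟩ }
  let Q : (⋀[R]^d P) →ₗ[R] ((⨂[R] _ : Fin d, P) ⧸ SymTen.altSpan R P d) :=
    exteriorPower.alternatingMapLinearEquiv q
  have hcomp : Q ∘ₗ PiTensorProduct.lift (exteriorPower.ιMulti R d (M := P)).toMultilinearMap =
      (SymTen.altSpan R P d).mkQ := by
    apply PiTensorProduct.ext
    ext v
    simp only [LinearMap.compMultilinearMap_apply, LinearMap.comp_apply, PiTensorProduct.lift.tprod]
    show Q (exteriorPower.ιMulti R d v) = _
    rw [exteriorPower.alternatingMapLinearEquiv_apply_ιMulti]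
    rfl
  have := LinearMap.congr_fun hcomp x
  rw [LinearMap.comp_apply, hx, map_zero] at this
  rw [← Submodule.Quotient.mk_eq_zero, ← Submodule.mkQ_apply, ← this]

/-- The injection of the exterior power into the tensor power. -/
noncomputable def extToTen : (⋀[R]^d P) →ₗ[R] (⨂[R] _ : Fin d, P) :=
  exteriorPower.alternatingMapLinearEquiv (asymAlt R d)

theorem extToTen_ιMulti (v : Fin d → P) :
    extToTen R d (exteriorPower.ιMulti R d v) = asymAlt R d v := by
  rw [extToTen, exteriorPower.alternatingMapLinearEquiv_apply_ιMulti]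

theorem extToTen_lift (x : ⨂[R] _ : Fin d, P) :
    extToTen R d (PiTensorProduct.lift (exteriorPower.ιMulti R d (M := P)).toMultilinearMap x) =
      asym R d x := by
  induction x using PiTensorProduct.induction_on with
  | smul_tprod r f =>
    simp only [map_smul, asym_tprod, PiTensorProduct.lift.tprod]
    congr 1
    exact extToTen_ιMulti R d f
  | add x y hx hy =>
    simp only [map_add, hx, hy]

theorem extToTen_injective_of_basis {I : Type u} [LinearOrder I] (b : Module.Basis I R P) :
    Function.Injective (extToTen R d (P := P)) := by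
  classical
  rw [← LinearMap.ker_eq_bot, LinearMap.ker_eq_bot']
  intro y hy
  refine (b.exteriorPower d).ext_elem fun s => ?_
  rw [map_zero, Finsupp.zero_apply, exteriorPower.basis_repr_apply]
  let L : (⨂[R] _ : Fin d, P) →ₗ[R] R :=
    (Basis.piTensorProduct (fun _ : Fin d => b)).coord (fun i => Set.powersetCard.ofFinEmbEquiv.symm s i)
  have hL : L ∘ₗ extToTen R d = exteriorPower.ιMultiDual R d b s := by
    apply exteriorPower.linearMap_ext
    ext v
    simp only [LinearMap.compAlternatingMap_apply, LinearMap.comp_apply, extToTen_ιMulti,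
      exteriorPower.ιMultiDual_apply_ιMulti, asymAlt_apply, map_sum]
    rw [Matrix.det_apply]
    refine Finset.sum_congr rfl fun σ _ => ?_
    rw [LinearMap.map_smul_of_tower]
    congr 1
    simp only [L, Module.Basis.coord_apply, Basis.piTensorProduct_repr_tprod_apply, Matrix.of_apply]
  rw [← hL, LinearMap.comp_apply, hy, map_zero]

theorem map_asymAlt {P' : Type u} [AddCommGroup P'] [Module R P'] (f : P →ₗ[R] P') (v : Fin d → P) :
    PiTensorProduct.map (fun _ : Fin d => f) (asymAlt R d v) = asymAlt R d (fun i => f (v i)) := by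
  rw [asymAlt_apply, asymAlt_apply, map_sum]
  refine Finset.sum_congr rfl fun σ _ => ?_
  rw [LinearMap.map_smul_of_tower, PiTensorProduct.map_tprod]

theorem map_extToTen {P' : Type u} [AddCommGroup P'] [Module R P'] (f : P →ₗ[R] P') :
    PiTensorProduct.map (fun _ : Fin d => f) ∘ₗ extToTen R d =
      extToTen R d ∘ₗ exteriorPower.map d f := by
  apply exteriorPower.linearMap_ext
  ext v
  simp only [LinearMap.compAlternatingMap_apply, LinearMap.comp_apply, extToTen_ιMulti,
    exteriorPower.map_apply_ιMulti, map_asymAlt]
  rfl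

theorem extToTen_injective_of_free [Module.Free R P] : Function.Injective (extToTen R d (P := P)) := by
  classical
  let b := Module.Free.chooseBasis R P
  let : LinearOrder (Module.Free.ChooseBasisIndex R P) := linearOrderOfSTO WellOrderingRel
  exact extToTen_injective_of_basis R d b

theorem extToTen_injective [Module.Projective R P] : Function.Injective (extToTen R d (P := P)) := by
  obtain ⟨s, hs⟩ := Module.projective_def'.mp ‹Module.Projective R P›
  have h1 : Function.Injective (exteriorPower.map d s) := exteriorPower.map_injective _ hs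
  have h2 := map_extToTen R d s
  have h3 : Function.Injective (extToTen R d ∘ₗ exteriorPower.map d s) := by
    rw [LinearMap.coe_comp]
    exact (extToTen_injective_of_free R d).comp h1
  rw [← h2, LinearMap.coe_comp] at h3
  exact h3.of_comp

theorem asym_eq_zero_of_mem_altSpan {x : ⨂[R] _ : Fin d, P} (hx : x ∈ SymTen.altSpan R P d) :
    asym R d x = 0 := by
  refine Submodule.span_induction ?_ (map_zero _) ?_ ?_ hx
  · rintro _ ⟨p, i, j, hne, hij, rfl⟩
    rw [asym_tprod]
    exact (asymAlt R d).map_eq_zero_of_eq p hij hne
  · intro x y _ _ hx hy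
    rw [map_add, hx, hy, add_zero]
  · intro r x _ hx
    rw [map_smul, hx, smul_zero]

/-- For a projective module, the span of the tensors with two equal factors is the kernel of the
antisymmetrizer. -/
theorem mem_altSpan_iff_asym_eq_zero [Module.Projective R P] (x : ⨂[R] _ : Fin d, P) :
    x ∈ SymTen.altSpan R P d ↔ asym R d x = 0 := by
  refine ⟨asym_eq_zero_of_mem_altSpan R d, fun h => ?_⟩
  apply mem_altSpan_of_lift_eq_zero
  apply extToTen_injective R d
  rw [extToTen_lift, h, map_zero]

end

section Act

variable (R : Type u) [CommRing R] (A : Type u) [CommRing A] [Algebra R A]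
    (P : Type u) [AddCommGroup P] [Module R P] [Module A P] [IsScalarTower R A P] (d : ℕ)

theorem tpowAct_tprod (a : Fin d → A) (p : Fin d → P) :
    SymTen.tpowAct R A P d (PiTensorProduct.tprod R a) (PiTensorProduct.tprod R p) =
      PiTensorProduct.tprod R (fun i => a i • p i) := by
  rw [SymTen.tpowAct, PiTensorProduct.lift.tprod]
  simp only [MultilinearMap.compLinearMap_apply, PiTensorProduct.mapMultilinear_apply,
    PiTensorProduct.map_tprod]
  rfl

theorem tpowAct_mul (a b : ⨂[R] _ : Fin d, A) (x : ⨂[R] _ : Fin d, P) :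
    SymTen.tpowAct R A P d (a * b) x = SymTen.tpowAct R A P d a (SymTen.tpowAct R A P d b x) := by
  induction a using PiTensorProduct.induction_on with
  | smul_tprod r f =>
    induction b using PiTensorProduct.induction_on with
    | smul_tprod s g =>
      induction x using PiTensorProduct.induction_on with
      | smul_tprod t p =>
        simp only [map_smul, LinearMap.smul_apply, smul_mul_assoc, mul_smul_comm,
          PiTensorProduct.tprod_mul_tprod, tpowAct_tprod, Pi.mul_apply, mul_smul]
      | add x y hx hy => simp only [map_add, hx, hy]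
    | add x y hx hy => simp only [mul_add, map_add, LinearMap.add_apply, hx, hy]
  | add x y hx hy => simp only [add_mul, map_add, LinearMap.add_apply, hx, hy]

theorem tpowAct_one (x : ⨂[R] _ : Fin d, P) : SymTen.tpowAct R A P d 1 x = x := by
  rw [PiTensorProduct.one_def]
  induction x using PiTensorProduct.induction_on with
  | smul_tprod t p =>
    simp only [map_smul, tpowAct_tprod]
    simp
  | add x y hx hy => simp only [map_add, hx, hy]

theorem reindex_tpowAct (σ : Equiv.Perm (Fin d)) (a : ⨂[R] _ : Fin d, A) (x : ⨂[R] _ : Fin d, P) :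
    PiTensorProduct.reindex R (fun _ : Fin d => P) σ (SymTen.tpowAct R A P d a x) =
      SymTen.tpowAct R A P d (PiTensorProduct.reindex R (fun _ : Fin d => A) σ a)
        (PiTensorProduct.reindex R (fun _ : Fin d => P) σ x) := by
  induction a using PiTensorProduct.induction_on with
  | smul_tprod r f =>
    induction x using PiTensorProduct.induction_on with
    | smul_tprod t p =>
      simp only [map_smul, LinearMap.smul_apply, tpowAct_tprod, PiTensorProduct.reindex_tprod]
    | add x y hx hy => simp only [map_add, hx, hy]
  | add x y hx hy => simp only [map_add, LinearMap.add_apply, hx, hy]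

theorem asym_tpowAct {a : ⨂[R] _ : Fin d, A} (ha : a ∈ SymTen.TS R A d) (x : ⨂[R] _ : Fin d, P) :
    asym R d (SymTen.tpowAct R A P d a x) = SymTen.tpowAct R A P d a (asym R d x) := by
  rw [asym_eq_sum, asym_eq_sum, map_sum]
  refine Finset.sum_congr rfl fun σ _ => ?_
  rw [LinearMap.map_smul_of_tower, reindex_tpowAct, (SymTen.mem_TS_iff R A d a).mp ha σ]

theorem tpowAct_mem_altSpan [Module.Projective R P] {a : ⨂[R] _ : Fin d, A} (ha : a ∈ SymTen.TS R A d)
    {x : ⨂[R] _ : Fin d, P} (hx : x ∈ SymTen.altSpan R P d) :
    SymTen.tpowAct R A P d a x ∈ SymTen.altSpan R P d := by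
  rw [mem_altSpan_iff_asym_eq_zero] at hx ⊢
  rw [asym_tpowAct R A P d ha, hx, map_zero]

end Act

end K937.Alt
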