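import Groth.Agent.SymTen.K937.Alt
import Mathlib.LinearAlgebra.TensorProduct.Finiteness
import Mathlib.LinearAlgebra.Dimension.Free

/-!
# The determinant character of the symmetric tensors acting on the top exterior power

For a `B`-module `M`, finite free over `A` with basis `b : Basis (Fin d) A M`:
* `K937.DetChar.detT b : T^d M → A`, the linearised determinant;
* `K937.DetChar.mem_altSpan_iff` : `x ∈ altSpan A M d ↔ detT b x = 0`;
* `K937.DetChar.chi b : T^d B → A`, `t ↦ detT b (t · (b₁ ⊗ ⋯ ⊗ b_d))`, and `detT_tpowAct`: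
  `detT b (t · x) = chi b t * detT b x` for `t` a symmetric tensor;
* `K937.DetChar.chiAlg b : TS A B d →ₐ[A] A`;
* `K937.DetChar.postcomp_chi_tpowLaw` : the law `x ↦ x ⊗ ⋯ ⊗ x` followed by `chi b` is the determinant law.
-/

universe u
open scoped TensorProduct

namespace K937.DetChar

section
variable {A : Type u} [CommRing A] {M : Type u} [AddCommGroup M] [Module A M] {d : ℕ}
  (b : Module.Basis (Fin d) A M)

/-- The linearised determinant. -/
noncomputable def detT : (⨂[A] _ : Fin d, M) →ₗ[A] A :=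
  PiTensorProduct.lift b.det.toMultilinearMap

theorem detT_tprod (v : Fin d → M) : detT b (PiTensorProduct.tprod A v) = b.det v := by
  rw [detT, PiTensorProduct.lift.tprod]
  rfl

theorem detT_eq_zero_of_mem_altSpan {x : ⨂[A] _ : Fin d, M} (hx : x ∈ SymTen.altSpan A M d) :
    detT b x = 0 := by
  refine Submodule.span_induction ?_ (map_zero _) ?_ ?_ hx
  · rintro _ ⟨p, i, j, hne, hij, rfl⟩
    rw [detT_tprod]
    exact b.det.map_eq_zero_of_eq p hij hne
  · intro x y _ _ hx hy
    rw [map_add, hx, hy, add_zero]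
  · intro r x _ hx
    rw [map_smul, hx, smul_zero]

theorem sub_smul_mem_altSpan (x : ⨂[A] _ : Fin d, M) :
    x - detT b x • PiTensorProduct.tprod A b ∈ SymTen.altSpan A M d := by
  classical
  let q : M [⋀^Fin d]→ₗ[A] ((⨂[A] _ : Fin d, M) ⧸ SymTen.altSpan A M d) :=
    { (SymTen.altSpan A M d).mkQ.compMultilinearMap (PiTensorProduct.tprod A) with
      map_eq_zero_of_eq' := by
        intro v i j hij hne
        show (SymTen.altSpan A M d).mkQ (PiTensorProduct.tprod A v) = 0
        rw [Submodule.mkQ_apply, Submodule.Quotient.mk_eq_zero]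
        exact Submodule.subset_span ⟨v, i, j, hne, hij, rfl⟩ }
  have hq : ∀ v, q v = (SymTen.altSpan A M d).mkQ (PiTensorProduct.tprod A v) := fun v => rfl
  let q' : M [⋀^Fin d]→ₗ[A] ((⨂[A] _ : Fin d, M) ⧸ SymTen.altSpan A M d) :=
    (LinearMap.toSpanSingleton A _ (q b)).compAlternatingMap b.det
  have hq' : ∀ v, q' v = b.det v • q b := fun v => rfl
  have hqq : q = q' := by
    apply b.ext_alternating
    intro v hv
    let σ : Equiv.Perm (Fin d) := Equiv.ofBijective v (Finite.injective_iff_bijective.mp hv)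
    have hσ : (fun i => b (v i)) = (b ∘ σ) := rfl
    rw [hσ, hq', AlternatingMap.map_perm, AlternatingMap.map_perm, b.det_self]
    rw [smul_assoc, one_smul]
  have hlin : (SymTen.altSpan A M d).mkQ =
      (LinearMap.toSpanSingleton A _ (q b)) ∘ₗ detT b := by
    apply PiTensorProduct.ext
    ext v
    have h1 : (SymTen.altSpan A M d).mkQ (PiTensorProduct.tprod A v) = b.det v • q b :=
      ((hq v).symm.trans (congrArg (fun f => f v) hqq)).trans (hq' v)
    simp only [LinearMap.compMultilinearMap_apply, LinearMap.comp_apply, detT_tprod,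
      LinearMap.toSpanSingleton_apply]
    exact h1
  rw [← Submodule.Quotient.mk_eq_zero, ← Submodule.mkQ_apply, map_sub, map_smul]
  have h2 := LinearMap.congr_fun hlin x
  rw [LinearMap.comp_apply, LinearMap.toSpanSingleton_apply, hq] at h2
  rw [h2, sub_self]

theorem mem_altSpan_iff (x : ⨂[A] _ : Fin d, M) : x ∈ SymTen.altSpan A M d ↔ detT b x = 0 := by
  refine ⟨detT_eq_zero_of_mem_altSpan b, fun h => ?_⟩
  have := sub_smul_mem_altSpan b x
  rwa [h, zero_smul, sub_zero] at this

end

section Chi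
variable {A : Type u} [CommRing A] {B : Type u} [CommRing B] [Algebra A B]
  {M : Type u} [AddCommGroup M] [Module A M] [Module B M] [IsScalarTower A B M] {d : ℕ}
  (b : Module.Basis (Fin d) A M)

variable (B) in
/-- The linear form `t ↦ detT b (t · (b₁ ⊗ ⋯ ⊗ b_d))`. -/
noncomputable def chi : (⨂[A] _ : Fin d, B) →ₗ[A] A :=
  detT b ∘ₗ (LinearMap.applyₗ (PiTensorProduct.tprod A b)) ∘ₗ SymTen.tpowAct A B M d

theorem chi_apply (t : ⨂[A] _ : Fin d, B) :
    chi B b t = detT b (SymTen.tpowAct A B M d t (PiTensorProduct.tprod A b)) := rfl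

theorem chi_tprod (c : Fin d → B) :
    chi B b (PiTensorProduct.tprod A c) = b.det (fun i => c i • b i) := by
  rw [chi_apply, K937.Alt.tpowAct_tprod, detT_tprod]

theorem detT_tpowAct {t : ⨂[A] _ : Fin d, B} (ht : t ∈ SymTen.TS A B d) (x : ⨂[A] _ : Fin d, M) :
    detT b (SymTen.tpowAct A B M d t x) = chi B b t * detT b x := by
  have : Module.Free A M := Module.Free.of_basis b
  have h1 := sub_smul_mem_altSpan b x
  have h2 := K937.Alt.tpowAct_mem_altSpan A B M d ht h1
  have h3 := detT_eq_zero_of_mem_altSpan b h2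
  rw [map_sub, map_sub, map_smul, map_smul, sub_eq_zero] at h3
  rw [h3, chi_apply, smul_eq_mul, mul_comm]

theorem chi_one : chi B b 1 = 1 := by
  rw [chi_apply, K937.Alt.tpowAct_one, detT_tprod, b.det_self]

theorem chi_mul {t : ⨂[A] _ : Fin d, B} (ht : t ∈ SymTen.TS A B d) (t' : ⨂[A] _ : Fin d, B) :
    chi B b (t * t') = chi B b t * chi B b t' := by
  rw [chi_apply, K937.Alt.tpowAct_mul, detT_tpowAct b ht, chi_apply (t := t')]

variable (B) in
/-- The character of the algebra of symmetric tensors given by the action on the top exterior power. -/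
noncomputable def chiAlg : SymTen.TS A B d →ₐ[A] A :=
  AlgHom.ofLinearMap (chi B b ∘ₗ (SymTen.TS A B d).val.toLinearMap)
    (by simpa using chi_one b) (fun x y => by simpa using chi_mul b x.2 y.1)

theorem chiAlg_apply (t : SymTen.TS A B d) : chiAlg B b t = chi B b t.1 := rfl

theorem chiAlg_tpow (r : B) :
    chiAlg B b (SymTen.tpow A B d r) = LinearMap.det (Algebra.lsmul A A M r : M →ₗ[A] M) := by
  rw [chiAlg_apply]
  show chi B b (PiTensorProduct.tprod A (fun _ => r)) = _
  rw [chi_tprod]
  have : (fun i => r • b i) = (Algebra.lsmul A A M r : M →ₗ[A] M) ∘ b := rfl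
  rw [this, b.det_comp, b.det_self, mul_one]

/-! ### The determinant law -/

/-- First multilinear map: the product in the tensor power followed by `chi`. -/
noncomputable def psi1 (S : Type u) [CommRing S] [Algebra A S] :
    MultilinearMap S (fun _ : Fin d => S ⊗[A] B) (S ⊗[A] A) :=
  ((chi B b).baseChange S).compMultilinearMap
    ((MultilinearMap.mkPiAlgebra S (Fin d) (S ⊗[A] (⨂[A] _ : Fin d, B))).compLinearMap
      (fun j => (Algebra.TensorProduct.map (AlgHom.id S S)
        (PiTensorProduct.singleAlgHom (R := A) (A := fun _ : Fin d => B) j)).toLinearMap))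

/-- Second multilinear map: the determinant of the vectors `x_i · b_i`. -/
noncomputable def psi2 (S : Type u) [CommRing S] [Algebra A S] :
    MultilinearMap S (fun _ : Fin d => S ⊗[A] B) (S ⊗[A] A) :=
  (LinearMap.toSpanSingleton S (S ⊗[A] A) ((1 : S) ⊗ₜ[A] (1 : A))).compMultilinearMap
    ((Algebra.TensorProduct.basis S b).det.toMultilinearMap.compLinearMap
      (fun i => (LinearMap.applyₗ ((1 : S) ⊗ₜ[A] b i)) ∘ₗ (PolLaw.actEnd (A := A) (B := B) M S).toLinearMap))

theorem psi1_apply (S : Type u) [CommRing S] [Algebra A S] (x : Fin d → S ⊗[A] B) :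
    psi1 b S x = (chi B b).lTensor S (∏ j, Algebra.TensorProduct.map (AlgHom.id S S)
        (PiTensorProduct.singleAlgHom (R := A) (A := fun _ : Fin d => B) j) (x j)) := rfl

theorem psi2_apply (S : Type u) [CommRing S] [Algebra A S] (x : Fin d → S ⊗[A] B) :
    psi2 b S x = ((Algebra.TensorProduct.basis S b).det
      (fun i => PolLaw.actEnd M S (x i) ((1 : S) ⊗ₜ[A] b i))) ⊗ₜ[A] (1 : A) := by
  show ((Algebra.TensorProduct.basis S b).det
      (fun i => PolLaw.actEnd M S (x i) ((1 : S) ⊗ₜ[A] b i))) • ((1 : S) ⊗ₜ[A] (1 : A)) = _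
  rw [TensorProduct.smul_tmul', smul_eq_mul, mul_one]

theorem prod_single (c : Fin d → B) :
    (∏ j, (PiTensorProduct.singleAlgHom (R := A) (A := fun _ : Fin d => B) j) (c j)) =
      PiTensorProduct.tprod A c := by
  simp only [PiTensorProduct.singleAlgHom_apply, MonoidHom.mulSingle_apply]
  rw [← PiTensorProduct.tprod_prod]
  exact congrArg _ (Finset.univ_prod_mulSingle c)

theorem prod_tmul (S : Type u) [CommRing S] [Algebra A S] {C : Type u} [CommRing C] [Algebra A C]
    {ι : Type} (t : Finset ι) (s : ι → S) (c : ι → C) :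
    (∏ j ∈ t, (s j ⊗ₜ[A] c j)) = (∏ j ∈ t, s j) ⊗ₜ[A] (∏ j ∈ t, c j) := by
  classical
  induction t using Finset.induction_on with
  | empty => simp [Algebra.TensorProduct.one_def]
  | insert j t hj ih =>
    rw [Finset.prod_insert hj, Finset.prod_insert hj, Finset.prod_insert hj, ih,
      Algebra.TensorProduct.tmul_mul_tmul]

theorem psi_eq_on_tmul (S : Type u) [CommRing S] [Algebra A S] (s : Fin d → S) (c : Fin d → B) :
    psi1 b S (fun i => s i ⊗ₜ[A] c i) = psi2 b S (fun i => s i ⊗ₜ[A] c i) := by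
  rw [psi1_apply, psi2_apply]
  simp only [Algebra.TensorProduct.map_tmul, AlgHom.id_apply]
  rw [prod_tmul, prod_single, LinearMap.lTensor_tmul, chi_tprod]
  have h1 : (fun i => PolLaw.actEnd M S (s i ⊗ₜ[A] c i) ((1 : S) ⊗ₜ[A] b i)) =
      fun i => s i • ((1 : S) ⊗ₜ[A] (c i • b i)) := by
    funext i
    rw [PolLaw.actEnd_tmul_tmul, mul_one, TensorProduct.smul_tmul', smul_eq_mul, mul_one]
  rw [h1]
  have h2 := (Algebra.TensorProduct.basis S b).det.toMultilinearMap.map_smul_univ s
    (fun i => (1 : S) ⊗ₜ[A] (c i • b i))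
  simp only [AlternatingMap.coe_multilinearMap] at h2
  rw [h2]
  have h3 : (Algebra.TensorProduct.basis S b).det (fun i => (1 : S) ⊗ₜ[A] (c i • b i)) =
      algebraMap A S (b.det (fun i => c i • b i)) := by
    rw [Module.Basis.det_apply, Module.Basis.det_apply, RingHom.map_det]
    congr 1
    ext i j
    simp [Module.Basis.toMatrix_apply, Algebra.TensorProduct.basis_repr_tmul]
  rw [h3, smul_eq_mul, ← Algebra.commutes, ← Algebra.smul_def, TensorProduct.smul_tmul, smul_eq_mul, mul_one]

theorem psi_eq (S : Type u) [CommRing S] [Algebra A S] (x : S ⊗[A] B) :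
    psi1 b S (fun _ => x) = psi2 b S (fun _ => x) := by
  classical
  obtain ⟨T, hT⟩ := TensorProduct.exists_finset x
  have hx : (fun _ : Fin d => x) = fun _ : Fin d => ∑ t ∈ T, t.1 ⊗ₜ[A] t.2 := by
    funext _; exact hT
  rw [hx, MultilinearMap.map_sum_finset, MultilinearMap.map_sum_finset]
  exact Finset.sum_congr rfl fun r _ => psi_eq_on_tmul b S (fun i => (r i).1) (fun i => (r i).2)

theorem psi2_diag (S : Type u) [CommRing S] [Algebra A S] (x : S ⊗[A] B) :
    psi2 b S (fun _ => x) = PolLaw.detAct M S x ⊗ₜ[A] (1 : A) := by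
  rw [psi2_apply]
  congr 1
  have h : (fun i => PolLaw.actEnd M S x ((1 : S) ⊗ₜ[A] b i)) =
      (PolLaw.actEnd M S x) ∘ (Algebra.TensorProduct.basis S b) := by
    funext i
    simp
  rw [h, Module.Basis.det_comp, Module.Basis.det_self, mul_one]
  rfl

theorem lTensor_chi_tpowLaw (S : Type u) [CommRing S] [Algebra A S] (x : S ⊗[A] B) :
    (chi B b).lTensor S ((SymTen.tpowLaw A B d).law.toFun' S x) =
      PolLaw.detAct M S x ⊗ₜ[A] (1 : A) := by
  rw [← psi2_diag b S x, ← psi_eq b S x, psi1_apply]
  rfl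

end Chi

section Law

variable {A : Type u} [CommRing A] {N N' : Type u} [AddCommGroup N] [Module A N]
  [AddCommGroup N'] [Module A N']

/-- Two polynomial laws that agree over all commutative *ring* test algebras agree. -/
theorem law_ext (F G : N →ₚₗ[A] N')
    (h : ∀ (S : Type u) [CommRing S] [Algebra A S] (x : S ⊗[A] N), F.toFun' S x = G.toFun' S x) :
    F = G := by
  ext S _ _ x
  let ψ : S ≃ₐ[A] A ⊗[A] S := (Algebra.TensorProduct.lid A S).symm
  have hF := congrFun (F.isCompat' ψ.toAlgHom) x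
  have hG := congrFun (G.isCompat' ψ.toAlgHom) x
  simp only [Function.comp_apply] at hF hG
  have h1 := h (A ⊗[A] S) (ψ.toAlgHom.toLinearMap.rTensor N x)
  have h2 : ψ.toAlgHom.toLinearMap.rTensor N' (F.toFun' S x) =
      ψ.toAlgHom.toLinearMap.rTensor N' (G.toFun' S x) := by
    rw [hF, hG]
    exact h1
  have hinj : Function.Injective (ψ.toAlgHom.toLinearMap.rTensor N') := by
    have : (ψ.toAlgHom.toLinearMap.rTensor N') = (LinearEquiv.rTensor N' ψ.toLinearEquiv).toLinearMap := by
      apply TensorProduct.ext'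
      intro s n
      rfl
    rw [this]
    exact (LinearEquiv.rTensor N' ψ.toLinearEquiv).injective
  exact hinj h2

end Law

section Main

variable {A : Type u} [CommRing A] {B : Type u} [CommRing B] [Algebra A B]
  {M : Type u} [AddCommGroup M] [Module A M] [Module B M] [IsScalarTower A B M] {d : ℕ}
  (b : Module.Basis (Fin d) A M) [Module.Free A M] [Module.Finite A M]

theorem postcomp_chi_tpowLaw (hd : Module.finrank A M = d) :
    PolLaw.postcomp (chi B b) (SymTen.tpowLaw A B d).law = (PolLaw.detLaw (A := A) (B := B) (M := M) d hd).law := by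
  apply law_ext
  intro S _ _ x
  show (chi B b).lTensor S ((SymTen.tpowLaw A B d).law.toFun' S x) = PolLaw.detFun A B M S x
  rw [lTensor_chi_tpowLaw, PolLaw.detFun_eq_detAct]

omit [Module.Free A M] [Module.Finite A M] in
theorem perm_comp_single (σ : Equiv.Perm (Fin d)) (j : Fin d) :
    (SymTen.perm A B d σ).comp (PiTensorProduct.singleAlgHom (R := A) (A := fun _ : Fin d => B) j) =
      PiTensorProduct.singleAlgHom (R := A) (A := fun _ : Fin d => B) (σ j) := by
  apply AlgHom.ext
  intro c
  rw [AlgHom.comp_apply, PiTensorProduct.singleAlgHom_apply, PiTensorProduct.singleAlgHom_apply,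
    SymTen.perm_tprod]
  congr 1
  funext i
  simp only [MonoidHom.mulSingle_apply, Pi.mulSingle_apply]
  simp only [Equiv.symm_apply_eq]

omit [Module.Free A M] [Module.Finite A M] in
theorem postcomp_perm_tpowLaw (σ : Equiv.Perm (Fin d)) :
    PolLaw.MulLaw.postcomp (SymTen.perm A B d σ) (SymTen.tpowLaw A B d) = SymTen.tpowLaw A B d := by
  apply PolLaw.MulLaw.ext
  ext S _ _ x
  show (SymTen.perm A B d σ).toLinearMap.lTensor S ((SymTen.tpowLaw A B d).law.toFun' S x) =
    (SymTen.tpowLaw A B d).law.toFun' S x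
  rw [PolLaw.lTensor_algHom_apply]
  simp only [SymTen.tpowLaw, PolLaw.MulLaw.prodMap_toFun']
  rw [map_prod, ← Equiv.prod_comp σ (fun j => Algebra.TensorProduct.map (AlgHom.id S S)
    (PiTensorProduct.singleAlgHom (R := A) (A := fun _ : Fin d => B) j) x)]
  refine Finset.prod_congr rfl fun j _ => ?_
  rw [← perm_comp_single]
  induction x using TensorProduct.induction_on with
  | zero => simp
  | tmul s c => simp [Algebra.TensorProduct.map_tmul]
  | add x y hx hy => simp only [map_add, hx, hy]

omit [Module.Free A M] [Module.Finite A M] in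
/-- The map from the degree-`d` divided power algebra to the tensor power lands in the symmetric tensors. -/
theorem toTensor_mem_TS {C : Type u} [CommRing C] [Algebra A C] (γ : PolLaw.MulLaw A B C d)
    (hγ : PolLaw.IsGammaD γ) (φ : C →ₐ[A] (⨂[A] _ : Fin d, B))
    (hφ : PolLaw.MulLaw.postcomp φ γ = SymTen.tpowLaw A B d) (c : C) : φ c ∈ SymTen.TS A B d := by
  intro σ
  have h1 : (SymTen.perm A B d σ).comp φ = φ := by
    refine (hγ (⨂[A] _ : Fin d, B) (SymTen.tpowLaw A B d)).unique ?_ ?_
    · have : PolLaw.MulLaw.postcomp (SymTen.perm A B d σ) (PolLaw.MulLaw.postcomp φ γ) =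
        SymTen.tpowLaw A B d := by rw [hφ, postcomp_perm_tpowLaw]
      rw [← this]
      ext S _ _ x
      show ((SymTen.perm A B d σ).comp φ).toLinearMap.lTensor S (γ.law.toFun' S x) =
        (SymTen.perm A B d σ).toLinearMap.lTensor S (φ.toLinearMap.lTensor S (γ.law.toFun' S x))
      rw [← LinearMap.comp_apply, ← LinearMap.lTensor_comp]
      rfl
    · exact congrArg PolLaw.MulLaw.law hφ
  have h2 := DFunLike.congr_fun h1 c
  rw [AlgHom.comp_apply, SymTen.perm_apply] at h2
  exact h2

/-- The character `chi` composed with `C → TS^d_A(B)` is the algebra map classifying the determinant law. -/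
theorem chi_toTensor_eq (hd : Module.finrank A M = d)
    {C : Type u} [CommRing C] [Algebra A C] (γ : PolLaw.MulLaw A B C d)
    (hγ : PolLaw.IsGammaD γ) (φ : C →ₐ[A] (⨂[A] _ : Fin d, B))
    (hφ : PolLaw.MulLaw.postcomp φ γ = SymTen.tpowLaw A B d)
    (π : C →ₐ[A] A) (hπ : PolLaw.MulLaw.postcomp π γ = PolLaw.detLaw (A := A) (B := B) (M := M) d hd) (c : C) :
    chi B b (φ c) = π c := by
  let φ' : C →ₐ[A] SymTen.TS A B d := φ.codRestrict _ (toTensor_mem_TS γ hγ φ hφ)
  have h1 : (chiAlg B b).comp φ' = π := by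
    refine (hγ A (PolLaw.detLaw (A := A) (B := B) (M := M) d hd)).unique ?_ ?_
    · rw [← postcomp_chi_tpowLaw b hd, ← hφ]
      ext S _ _ x
      show ((chiAlg B b).comp φ').toLinearMap.lTensor S (γ.law.toFun' S x) =
        (chi B b).lTensor S (φ.toLinearMap.lTensor S (γ.law.toFun' S x))
      rw [← LinearMap.comp_apply, ← LinearMap.lTensor_comp]
      rfl
    · exact congrArg PolLaw.MulLaw.law hπ
  exact DFunLike.congr_fun h1 c

end Main

end K937.DetChar
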