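import Mathlib.LinearAlgebra.Multilinear.Basic
import Mathlib.Algebra.BigOperators.Ring.Finset
import Mathlib.Algebra.Module.BigOperators
import Mathlib.Data.Fintype.Perm
import Mathlib.GroupTheory.Perm.Basic
import Groth.Prelude.Def_SymTen

/-!
# Polarization

* `K937.Polar.sum_perm_eq` : `Σ_σ f (v ∘ σ) = Σ_I (-1)^{|Iᶜ|} f (Σ_{i ∈ I} v i, …, Σ_{i ∈ I} v i)`.
* `K937.Polar.TS_le_span_tpow` : when `n!` is invertible, the symmetric tensors are spanned by the
  `b ⊗ ⋯ ⊗ b`.
-/

universe u
open scoped TensorProduct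

namespace K937.Polar

theorem sum_neg_one_pow_of_subset {ι : Type*} [Fintype ι] [DecidableEq ι] (J : Finset ι) :
    ∑ I : Finset ι, (if J ⊆ I then (-1 : ℤ) ^ (Iᶜ.card) else 0) = if J = Finset.univ then 1 else 0 := by
  have h := Finset.prod_add (fun _ : ι => (1 : ℤ)) (fun i => if i ∈ J then 0 else -1) Finset.univ
  have h1 : ∏ i : ι, ((1 : ℤ) + if i ∈ J then 0 else -1) = if J = Finset.univ then 0 + 1 else 0 := by
    split_ifs with hJ
    · subst hJ; simp
    · obtain ⟨a, ha⟩ : ∃ a, a ∉ J := by
        by_contra hcon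
        push Not at hcon
        exact hJ (Finset.eq_univ_iff_forall.mpr hcon)
      exact Finset.prod_eq_zero (Finset.mem_univ a) (by simp [ha])
  rw [h1, zero_add] at h
  rw [h, Finset.powerset_univ]
  refine Finset.sum_congr rfl fun I _ => ?_
  rw [Finset.prod_const_one, one_mul]
  split_ifs with hI
  · rw [← Finset.compl_eq_univ_sdiff]
    rw [Finset.prod_congr rfl (g := fun _ => (-1 : ℤ))]
    · rw [Finset.prod_const]
    · intro i hi
      have : i ∉ J := fun hiJ => (Finset.mem_compl.mp hi) (hI hiJ)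
      simp [this]
  · obtain ⟨a, haJ, haI⟩ := Finset.not_subset.mp hI
    symm
    refine Finset.prod_eq_zero (i := a) ?_ ?_
    · simp [haI]
    · simp [haJ]

theorem sum_perm_eq {R : Type*} [CommSemiring R] {M N : Type*} [AddCommMonoid M] [Module R M]
    [AddCommGroup N] [Module R N] {n : ℕ} (f : MultilinearMap R (fun _ : Fin n => M) N) (v : Fin n → M) :
    ∑ σ : Equiv.Perm (Fin n), f (fun i => v (σ i)) =
      ∑ I : Finset (Fin n), (-1 : ℤ) ^ (Iᶜ.card) • f (fun _ => ∑ i ∈ I, v i) := by
  classical
  have h1 : ∀ I : Finset (Fin n), f (fun _ => ∑ i ∈ I, v i) =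
      ∑ r : Fin n → Fin n, if Finset.image r Finset.univ ⊆ I then f (fun i => v (r i)) else 0 := by
    intro I
    rw [MultilinearMap.map_sum_finset]
    rw [← Finset.sum_filter]
    refine Finset.sum_congr ?_ fun _ _ => rfl
    ext r
    simp only [Fintype.mem_piFinset, Finset.mem_filter, Finset.mem_univ, true_and]
    constructor
    · intro h x hx
      obtain ⟨a, -, rfl⟩ := Finset.mem_image.mp hx
      exact h a
    · intro h a
      exact h (Finset.mem_image_of_mem _ (Finset.mem_univ a))
  simp_rw [h1, Finset.smul_sum]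
  rw [Finset.sum_comm]
  have h2 : ∀ r : Fin n → Fin n, ∑ I : Finset (Fin n), (-1 : ℤ) ^ (Iᶜ.card) •
      (if Finset.image r Finset.univ ⊆ I then f (fun i => v (r i)) else 0) =
      if Function.Bijective r then f (fun i => v (r i)) else 0 := by
    intro r
    have h3 : ∀ I : Finset (Fin n), (-1 : ℤ) ^ (Iᶜ.card) •
      (if Finset.image r Finset.univ ⊆ I then f (fun i => v (r i)) else 0) =
        (if Finset.image r Finset.univ ⊆ I then (-1 : ℤ) ^ (Iᶜ.card) else 0) • f (fun i => v (r i)) := by
      intro I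
      split_ifs <;> simp
    simp_rw [h3, ← Finset.sum_smul]
    rw [sum_neg_one_pow_of_subset]
    have h4 : Finset.image r Finset.univ = Finset.univ ↔ Function.Bijective r := by
      rw [← Finite.surjective_iff_bijective]
      constructor
      · intro h a
        have ha : a ∈ Finset.image r Finset.univ := by rw [h]; exact Finset.mem_univ a
        obtain ⟨c, -, hc⟩ := Finset.mem_image.mp ha
        exact ⟨c, hc⟩
      · intro h
        exact Finset.image_univ_of_surjective h
    by_cases hb : Function.Bijective r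
    · rw [if_pos (h4.mpr hb), if_pos hb, one_smul]
    · rw [if_neg (fun h => hb (h4.mp h)), if_neg hb, zero_smul]
  rw [Finset.sum_congr rfl fun r _ => h2 r, ← Finset.sum_filter]
  refine Finset.sum_bij (fun σ _ => (σ : Fin n → Fin n)) ?_ ?_ ?_ ?_
  · intro σ _
    exact Finset.mem_filter.mpr ⟨Finset.mem_univ _, σ.bijective⟩
  · intro σ _ τ _ h
    exact Equiv.coe_fn_injective h
  · intro r hr
    have hr' := (Finset.mem_filter.mp hr).2
    exact ⟨Equiv.ofBijective r hr', Finset.mem_univ _, rfl⟩
  · intro σ _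
    rfl

variable (A : Type u) [CommRing A] (B : Type u) [CommRing B] [Algebra A B] (n : ℕ)

theorem sum_perm_reindex_mem_span (x : ⨂[A] _ : Fin n, B) :
    ∑ σ : Equiv.Perm (Fin n), PiTensorProduct.reindex A (fun _ : Fin n => B) σ x ∈
      Submodule.span A (Set.range fun b : B => (SymTen.tpow A B n b : ⨂[A] _ : Fin n, B)) := by
  classical
  induction x using PiTensorProduct.induction_on with
  | smul_tprod r f =>
    simp only [map_smul, ← Finset.smul_sum]
    refine Submodule.smul_mem _ _ ?_
    simp only [PiTensorProduct.reindex_tprod]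
    rw [← Equiv.sum_comp (Equiv.inv (Equiv.Perm (Fin n)))]
    have : ∀ σ : Equiv.Perm (Fin n), (PiTensorProduct.tprod A fun i => f ((Equiv.symm ((Equiv.inv _) σ)) i)) =
        PiTensorProduct.tprod A fun i => f (σ i) := fun σ => rfl
    rw [Finset.sum_congr rfl fun σ _ => this σ, sum_perm_eq]
    refine Submodule.sum_mem _ fun I _ => ?_
    refine Submodule.smul_of_tower_mem _ _ ?_
    exact Submodule.subset_span ⟨∑ i ∈ I, f i, rfl⟩
  | add x y hx hy =>
    simp only [map_add, Finset.sum_add_distrib]
    exact Submodule.add_mem _ hx hy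

/-- When `n!` is invertible the symmetric tensors are spanned by the `b ⊗ ⋯ ⊗ b`. -/
theorem mem_span_tpow (h : IsUnit ((Nat.factorial n : ℕ) : A)) {x : ⨂[A] _ : Fin n, B}
    (hx : x ∈ SymTen.TS A B n) :
    x ∈ Submodule.span A (Set.range fun b : B => (SymTen.tpow A B n b : ⨂[A] _ : Fin n, B)) := by
  have h1 := sum_perm_reindex_mem_span A B n x
  rw [Finset.sum_congr rfl fun σ _ => (SymTen.mem_TS_iff A B n x).mp hx σ, Finset.sum_const,
    Finset.card_univ, Fintype.card_perm, Fintype.card_fin, ← Nat.cast_smul_eq_nsmul A] at h1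
  obtain ⟨u, hu⟩ := h
  have h2 := Submodule.smul_mem _ (↑u⁻¹ : A) h1
  rwa [← hu, smul_smul, Units.inv_mul, one_smul] at h2

end K937.Polar
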